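import Groth.Agent.ProjCech.Sections
import Groth.Agent.ProjMor.PullSec
import Groth.Agent.ProjMor.Sym
import Groth.Agent.TMul.Pullback

/-! Global sections of `O(1)` on projective space are linear forms. -/

set_option autoImplicit false
set_option backward.isDefEq.respectTransparency false

universe u

open CategoryTheory AlgebraicGeometry TopologicalSpace Opposite
open Groth.Agent.QC (res resO)
open Groth.Agent.ProjCech

noncomputable section

namespace Groth.Agent.HypIso

variable {n : ℕ} {R : Type u} [CommRing R]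

theorem exists_eq_sec1 (t : Γ(Twist.twistProjSpace n R 1, ⊤)) :
    ∃ c : Fin (n + 1) → R, t = ProjMor.sec1 (ProjMor.linForms_mem n R c) := by
  classical
  suffices key : ∀ t : Γ(O n R 1, ⊤), ∃ c : Fin (n + 1) → R,
      t = (ProjMor.sec1 (ProjMor.linForms_mem n R c) : Γ(O n R 1, ⊤)) from key t
  clear t
  intro t
  let a : Fin (n + 1) → (Fin (0 + 1) → J.{u} n) := fun i _ => ⟨i⟩
  let V : Fin (n + 1) → (Proj (CohB1.polyGrading n R)).Opens := fun i =>
    Proj.basicOpen (CohB1.polyGrading n R) (T R (a i))
  let L : Fin (n + 1) → ProjCech.L n R := fun i => valHom (d := 1) (a := a i) (rfl : V i = _) (res (O n R 1) le_top t)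
  have hL : ∀ i j, L i = L j := by
    intro i j
    let b : Fin (0 + 2) → J.{u} n := ![⟨i⟩, ⟨j⟩]
    let W := Proj.basicOpen (CohB1.polyGrading n R) (T R b)
    have h : ∀ (l : Fin (n + 1)) (k₀ : Fin (0 + 2)) (hab : a l = b ∘ k₀.succAbove),
        valHom (d := 1) (a := b) (rfl : W = _) (res (O n R 1) le_top t) = L l := by
      intro l k₀ hab
      have hWV : W ≤ V l := by
        show Proj.basicOpen _ (T R b) ≤ Proj.basicOpen _ (T R (a l))
        rw [basicOpen_T, basicOpen_T, hab]
        exact le_iInf fun k => iInf_le _ (k₀.succAbove k)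
      refine Eq.trans ?_ (valHom_res (a := a l) (rfl : V l = _) k₀ (rfl : W = _) hab hWV (res (O n R 1) le_top t))
      rw [Groth.Agent.QC.res_res]
    exact (h i 1 (funext fun k => by fin_cases k; rfl)).symm.trans (h j 0 (funext fun k => by fin_cases k; rfl))
  have hgood : ∀ e, cf e (L 0) ≠ 0 → ∃ i, φ (Finsupp.single i 1) = e := by
    intro e he
    have hall : ∀ i, Good (1 : ℤ) (a i) e := fun i => by
      by_contra h
      exact he (hL i 0 ▸ allowed_valHom (rfl : V i = _) _ e h)
    have hnn : ∀ l, 0 ≤ e l := fun l => by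
      by_contra hl
      push Not at hl
      have hall' : ∀ i, i = l := fun i => ((hall i).2 l hl).choose_spec
      have h1 := (hall l).1
      rw [Finset.sum_eq_single l (fun b _ hb => absurd (hall' b) hb) (fun h => absurd (Finset.mem_univ l) h)] at h1
      omega
    obtain ⟨l, hl⟩ : ∃ l, e l ≠ 0 := by
      by_contra h
      push Not at h
      have := (hall 0).1
      simp [h] at this
    refine ⟨l, funext fun i => ?_⟩
    show ((Finsupp.single l 1 : Fin (n + 1) →₀ ℕ) i : ℤ) = e i
    have hsum := (hall 0).1
    rw [← Finset.add_sum_erase _ _ (Finset.mem_univ l)] at hsum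
    have hrest : 0 ≤ ∑ x ∈ Finset.univ.erase l, e x := Finset.sum_nonneg fun x _ => hnn x
    have := hnn l
    by_cases hil : l = i
    · subst hil; rw [Finsupp.single_eq_same]; omega
    · rw [Finsupp.single_eq_of_ne (Ne.symm hil)]
      have h2 := Finset.single_le_sum (f := e) (fun x _ => hnn x)
        (Finset.mem_erase.2 ⟨Ne.symm hil, Finset.mem_univ i⟩ : i ∈ Finset.univ.erase l)
      have := hnn i
      push_cast
      omega
  let c : Fin (n + 1) → R := fun i => cf (φ (Finsupp.single i 1)) (L 0)
  have hh : toL (ProjMor.linForms n R c) = L 0 := by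
    refine cf_ext fun e => ?_
    have hhom : (ProjMor.linForms n R c).IsHomogeneous 1 := ProjMor.linForms_mem n R c
    by_cases he : ∃ i, φ (Finsupp.single i 1) = e
    · obtain ⟨i, rfl⟩ := he
      rw [cf_toL, ProjMor.linForms, Fintype.linearCombination_apply, MvPolynomial.coeff_sum,
        Finset.sum_eq_single i (fun b _ hb => by
          rw [MvPolynomial.coeff_smul, MvPolynomial.coeff_X', if_neg (fun h => hb (Finsupp.single_left_injective one_ne_zero h)),
            smul_zero]) (fun h => absurd (Finset.mem_univ i) h)]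
      simp [c]
    · have h0 : cf e (L 0) = 0 := by
        by_contra h
        exact he (hgood e h)
      rw [h0]
      by_contra h
      obtain ⟨m, hm, hm'⟩ := exists_of_cf_toL_ne h
      have hdeg : ∑ l, m l = 1 := by
        have := hhom hm'
        simpa [Finsupp.weight_apply, Finsupp.sum_fintype] using this
      obtain ⟨l, hl⟩ : ∃ l, m l ≠ 0 := by
        by_contra hall
        push Not at hall
        simp [hall] at hdeg
      refine he ⟨l, (congrArg φ (Finsupp.ext fun i => ?_)).trans hm⟩
      rw [← Finset.add_sum_erase _ _ (Finset.mem_univ l)] at hdeg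
      by_cases hil : l = i
      · subst hil; rw [Finsupp.single_eq_same]; omega
      · rw [Finsupp.single_eq_of_ne (Ne.symm hil)]
        have := Finset.single_le_sum (f := fun l => m l) (fun _ _ => Nat.zero_le _)
          (Finset.mem_erase.2 ⟨Ne.symm hil, Finset.mem_univ i⟩ : i ∈ Finset.univ.erase l)
        omega
  refine ⟨c, Groth.Agent.QC.section_eq_of_locally fun y _ => ?_⟩
  obtain ⟨l, hl⟩ : ∃ l, y ∈ Proj.basicOpen (CohB1.polyGrading n R) (MvPolynomial.X l) :=
    Opens.mem_iSup.1 ((Groth.Agent.S9576.result n R).1.ge trivial)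
  refine ⟨V l, le_top, by
    show y ∈ Proj.basicOpen (CohB1.polyGrading n R) (T R (a l))
    rw [T_eq_prod]; simpa [a] using hl, ?_⟩
  refine valHom_injective (d := 1) (a := a l) (rfl : V l = _) ?_
  have hfrac : IsFrac (d := 1) (a l) (res (O n R 1) (le_top : V l ≤ ⊤)
      (ProjMor.sec1 (ProjMor.linForms_mem n R c))) 0 (ProjMor.linForms n R c) :=
    ⟨⟨1, by simp, ProjMor.linForms_mem n R c⟩, fun z hz => GrT.fr_congr _ z.1 _ _ (by simp)⟩
  show L l = _
  rw [valHom_apply, val_eq (rfl : V l = _) hfrac, lof, hL l 0, ← hh]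
  simp [← AddMonoidAlgebra.one_def]

end Groth.Agent.HypIso
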