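import Groth.Agent.HypIso.Subst
import Groth.Agent.HypIso.Sections
import Groth.Agent.ZeroSch.Over
import Groth.Agent.WeakAssLib.Basic
import Groth.Agent.ProjMor.Exists
import Mathlib.AlgebraicGeometry.Morphisms.ClosedImmersion

/-! Hyperplanes are projective spaces. -/

set_option autoImplicit false
set_option backward.isDefEq.respectTransparency false

universe u

open CategoryTheory AlgebraicGeometry TopologicalSpace Opposite
open Groth.Agent.QC (res resO res_res res_smul resO_resO resO_self res_self app_res)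
open TMul (IsGen val)
open ProjMor (ev)
open Groth.Agent.WeakAssLib (mgerm mgerm_res)

noncomputable section

namespace Groth.Agent.HypIso

/-- A homogeneous element dehomogenising to zero is killed by a power of the denominator. -/
theorem exists_pow_mul_eq_zero {R A : Type u} [CommRing R] [CommRing A] [Algebra R A] {𝒜 : ℕ → Submodule R A}
    [GradedAlgebra 𝒜] {f : A} (hf : f ∈ 𝒜 1) {d : ℕ} {p : A} (hp : p ∈ 𝒜 d) (h : GrT.deh 𝒜 hf p = 0) :
    ∃ N : ℕ, f ^ N * p = 0 := by
  rw [GrT.deh_of_mem 𝒜 hf hp, GrT.away] at h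
  have h1 := (ProjLib.awayToSection_bijective 𝒜 hf one_pos).1 (h.trans (map_zero _).symm)
  have h2 := congrArg HomogeneousLocalization.val h1
  rw [HomogeneousLocalization.Away.val_mk, HomogeneousLocalization.val_zero, Localization.mk_eq_mk',
    IsLocalization.mk'_eq_zero_iff] at h2
  obtain ⟨⟨m, N, hN⟩, hm⟩ := h2
  have hN' : f ^ N = m := hN
  exact ⟨N, hN' ▸ hm⟩

variable {k : Type u} [Field k] {n : ℕ} (a : Fin (n + 2) → k) (j : Fin (n + 2))

theorem X_mem₁ (i : Fin (n + 2)) : (MvPolynomial.X i : MvPolynomial (Fin (n + 2)) k) ∈ CohB1.polyGrading (n + 1) k 1 :=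
  MvPolynomial.isHomogeneous_X k i

theorem th_mem {d : ℕ} {p : MvPolynomial (Fin (n + 2)) k} (hp : p ∈ CohB1.polyGrading (n + 1) k d) :
    th a j p ∈ CohB1.polyGrading n k d :=
  th_isHomogeneous a j hp

/-- The sections defining the embedding. -/
def emb (i : Fin (n + 2)) : Γ(Twist.twist (CohB1.polyGrading n k) 1, ⊤) := ProjMor.sec1 (th_mem a j (X_mem₁ i))

theorem generatedBy : ProjUP.GeneratedBy (Twist.twistProjSpace n k 1) (fun i => emb a j i) := by
  intro x
  obtain ⟨l, hl⟩ : ∃ l, x ∈ Proj.basicOpen (CohB1.polyGrading n k) (MvPolynomial.X l) :=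
    Opens.mem_iSup.1 ((Groth.Agent.S9576.result n k).1.ge trivial)
  have hX : (MvPolynomial.X l : MvPolynomial (Fin (n + 1)) k) ∈ CohB1.polyGrading n k 1 :=
    MvPolynomial.isHomogeneous_X k l
  let D := Proj.basicOpen (CohB1.polyGrading n k) (MvPolynomial.X l : MvPolynomial (Fin (n + 1)) k)
  let L := Twist.twist (CohB1.polyGrading n k) 1
  have he : IsGen (res L (le_top : D ≤ ⊤) (ProjMor.sec1 hX)) := by
    have := (TMul.isGen_genLocus (TMul.homOf (ProjMor.sec1 hX))).res
      (ProjMor.genLocus_sec1 (ProjMor.genDegOne_projSpace n k) hX).ge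
    rwa [TMul.val_homOf, res_res] at this
  refine top_le_iff.1 fun z _ => ?_
  obtain ⟨r, hr⟩ := ZeroSch.exists_smul_germ he (show x ∈ D from hl) z
  rw [hr, mgerm_res L (le_top : D ≤ ⊤) (show x ∈ D from hl)]
  refine Submodule.smul_mem _ r (Submodule.subset_span ⟨j.succAbove l, ?_⟩)
  show (L.presheaf.germ ⊤ x trivial) (ProjMor.sec1 (th_mem a j (X_mem₁ (j.succAbove l)))) =
    (L.presheaf.germ ⊤ x trivial) (ProjMor.sec1 hX)
  simp only [th_X_succAbove]

theorem surjective_app_congr {X Y : Scheme.{u}} (r : X ⟶ Y) {U V : Y.Opens} (e : V = U)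
    (h : Function.Surjective (r.app U)) : Function.Surjective (r.app V) := by subst e; exact h

variable (hj : a j ≠ 0) (r : CohB1.ProjSpace n k ⟶ CohB1.ProjSpace (n + 1) k)
  (hr : r ≫ CohB1.ProjSpace.toSpec (n + 1) k = CohB1.ProjSpace.toSpec n k)
  (τ : (Scheme.Modules.pullback r).obj (Twist.twistProjSpace (n + 1) k 1) ≅ Twist.twistProjSpace n k 1)
  (hτ : ∀ i, τ.hom.app ⊤ (ProjUP.pullSec r (Twist.twistProjSpace (n + 1) k 1) (ProjUP.coord (n + 1) k i)) =
    (emb a j i : Γ(Twist.twistProjSpace n k 1, ⊤)))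

include hτ in
theorem preimage_basicOpen (i : Fin (n + 2)) :
    r ⁻¹ᵁ Proj.basicOpen (CohB1.polyGrading (n + 1) k) (MvPolynomial.X i) =
      Proj.basicOpen (CohB1.polyGrading n k) (th a j (MvPolynomial.X i)) := by
  have h1 := ProjMor.genLocus_pull1 (ProjMor.genDegOne_projSpace (n + 1) k) r (X_mem₁ i)
  have h2 := ProjMor.genLocus_sec1 (ProjMor.genDegOne_projSpace n k) (th_mem a j (X_mem₁ i))
  refine h1.symm.trans (Eq.trans ?_ h2)
  have e : TMul.homOf (L := Twist.twistProjSpace n k 1) (emb a j i) =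
      TMul.homOf (ProjMor.pull1 r (X_mem₁ i)) ≫ τ.hom := by
    rw [← ProjMor.homOf_app]
    exact congrArg _ (hτ i).symm
  refine Eq.trans ?_ (congrArg (CohB1.genLocus _) e.symm)
  exact (TMul.genLocus_comp _ _).symm

include hτ hr in
theorem ev_deh (i : Fin (n + 2))
    (h : Proj.basicOpen (CohB1.polyGrading n k) (th a j (MvPolynomial.X i)) ≤
      r ⁻¹ᵁ Proj.basicOpen (CohB1.polyGrading (n + 1) k) (MvPolynomial.X i))
    (p : MvPolynomial (Fin (n + 2)) k) :
    ev r _ _ h (GrT.deh (CohB1.polyGrading (n + 1) k) (X_mem₁ i) p) =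
      GrT.deh (CohB1.polyGrading n k) (th_mem a j (X_mem₁ i)) (th a j p) := by
  suffices e : (ev r _ _ h).comp (GrT.deh (CohB1.polyGrading (n + 1) k) (X_mem₁ i)) =
      (GrT.deh (CohB1.polyGrading n k) (th_mem a j (X_mem₁ i))).comp (th a j).toRingHom from RingHom.congr_fun e p
  refine MvPolynomial.ringHom_ext (fun c => ?_) (fun l => ?_)
  · have e1 := ProjMor.ev_deh_algebraMap (CohB1.polyGrading (n + 1) k) r hr (X_mem₁ i) h c
    have e2 := ProjMor.res_toGlobal_base (CohB1.polyGrading n k) (th_mem a j (X_mem₁ i)) c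
    simp only [RingHom.comp_apply, AlgHom.toRingHom_eq_coe, RingHom.coe_coe]
    exact e1.trans (e2.trans (congrArg _ (MvPolynomial.algHom_C (th a j) c).symm))
  · let L := Twist.twist (CohB1.polyGrading n k) 1
    let E := Proj.basicOpen (CohB1.polyGrading n k) (th a j (MvPolynomial.X i))
    have he : IsGen (res L (le_top : E ≤ ⊤) (emb a j i)) := by
      have := (TMul.isGen_genLocus (TMul.homOf (emb a j i))).res
        (ProjMor.genLocus_sec1 (ProjMor.genDegOne_projSpace n k) (th_mem a j (X_mem₁ i))).ge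
      rwa [TMul.val_homOf, res_res] at this
    refine (he E le_rfl).1 ?_
    simp only [res_self, RingHom.comp_apply, AlgHom.toRingHom_eq_coe, RingHom.coe_coe]
    refine Eq.trans ?_ (ProjMor.res_sec1 (th_mem a j (X_mem₁ i)) (th_mem a j (X_mem₁ l)))
    have e0 := congrArg (fun t => τ.hom.app E t) (ProjMor.res_pull1 r (X_mem₁ i) (X_mem₁ l) h)
    simp only at e0
    have hl : ∀ m, τ.hom.app E (res _ le_top (ProjMor.pull1 r (X_mem₁ m))) = res L le_top (emb a j m) := fun m => by
      rw [← app_res τ.hom le_top]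
      exact congrArg _ (hτ m)
    let c : Γ(CohB1.ProjSpace n k, E) := ev r _ E h (GrT.deh (CohB1.polyGrading (n + 1) k) (X_mem₁ i) (MvPolynomial.X l))
    exact (((τ.hom.val.app (op E)).hom.map_smul c _).trans (congrArg (fun t : Γ(L, E) => c • t) (hl i))).symm.trans
      (e0.symm.trans (hl l))

include hτ hr in
theorem surjective_app (i : Fin (n + 2)) :
    Function.Surjective (r.app (Proj.basicOpen (CohB1.polyGrading (n + 1) k) (MvPolynomial.X i))) := by
  intro z
  have e := preimage_basicOpen a j r τ hτ i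
  obtain ⟨q, hq⟩ := ProjMor.exists_deh_eq (th_mem a j (X_mem₁ i)) (resO _ e.ge z)
  obtain ⟨p, rfl⟩ := th_surjective a j q
  refine ⟨GrT.deh (CohB1.polyGrading (n + 1) k) (X_mem₁ i) p, ?_⟩
  rw [← ev_deh a j r hr τ hτ i e.ge p] at hq
  rw [Scheme.Hom.app_eq_appLE]
  exact (ProjMor.ev_res r e.ge e.le _).symm.trans
    ((congrArg (resO _ e.le) hq).trans ((resO_resO _ _ _).trans (resO_self _ _)))

include hτ hr in
theorem isClosedImmersion : IsClosedImmersion r := by
  let D : Fin (n + 2) → (CohB1.ProjSpace (n + 1) k).Opens :=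
    fun i => Proj.basicOpen (CohB1.polyGrading (n + 1) k) (MvPolynomial.X i)
  have hsup : iSup D = ⊤ := (Groth.Agent.S9576.result (n + 1) k).1
  refine (IsZariskiLocalAtTarget.iff_of_iSup_eq_top (P := @IsClosedImmersion) D hsup).2 fun i => ?_
  haveI : IsAffine (D i : Scheme.{u}) := Proj.isAffineOpen_basicOpen _ _ (X_mem₁ i) one_pos
  rw [HasAffineProperty.iff_of_isAffine (P := @IsClosedImmersion)]
  refine ⟨?_, ?_⟩
  · show IsAffineOpen (r ⁻¹ᵁ D i)
    rw [preimage_basicOpen a j r τ hτ i]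
    exact Proj.isAffineOpen_basicOpen _ _ (th_mem a j (X_mem₁ i)) one_pos
  · rw [morphismRestrict_appTop]
    simp only [CommRingCat.hom_comp, RingHom.coe_comp]
    exact ((ConcreteCategory.bijective_of_isIso _).2).comp
      (surjective_app_congr r (D i).ι_image_top (surjective_app a j r hr τ hτ i))

include hτ hr hj in
theorem ker_eq (I : (CohB1.ProjSpace (n + 1) k).IdealSheafData)
    (hI : ∀ i, I.ideal ⟨Proj.basicOpen (CohB1.polyGrading (n + 1) k) (MvPolynomial.X i),
      Proj.isAffineOpen_basicOpen _ _ (X_mem₁ i) one_pos⟩ =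
        Ideal.span {GrT.deh (CohB1.polyGrading (n + 1) k) (X_mem₁ i) (∑ l, a l • MvPolynomial.X l)}) :
    r.ker = I := by
  haveI := isClosedImmersion a j r hr τ hτ
  refine Scheme.IdealSheafData.ext_of_iSup_eq_top (fun i : Fin (n + 2) => ⟨Proj.basicOpen (CohB1.polyGrading (n + 1) k)
    (MvPolynomial.X i), Proj.isAffineOpen_basicOpen _ _ (X_mem₁ i) one_pos⟩) (Groth.Agent.S9576.result (n + 1) k).1 fun i => ?_
  rw [Scheme.Hom.ker_apply, hI]
  have e := preimage_basicOpen a j r τ hτ i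
  refine le_antisymm (fun f hf => ?_) ?_
  · obtain ⟨d, p, hp, -, rfl⟩ := GrT.exists_away (CohB1.polyGrading (n + 1) k) (X_mem₁ i) one_pos f
    have hp' : p ∈ CohB1.polyGrading (n + 1) k d := by simpa using hp
    rw [← GrT.deh_of_mem (CohB1.polyGrading (n + 1) k) (X_mem₁ i) hp'] at hf ⊢
    have h0 : GrT.deh (CohB1.polyGrading n k) (th_mem a j (X_mem₁ i)) (th a j p) = 0 := by
      rw [← ev_deh a j r hr τ hτ i e.ge p, ← ProjMor.ev_res r le_rfl e.ge]
      have hf' : ev r _ _ le_rfl (GrT.deh (CohB1.polyGrading (n + 1) k) (X_mem₁ i) p) = 0 := by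
        rw [RingHom.mem_ker, Scheme.Hom.app_eq_appLE] at hf
        exact hf
      rw [hf', map_zero]
    obtain ⟨N, hN⟩ := exists_pow_mul_eq_zero (th_mem a j (X_mem₁ i)) (th_mem a j hp') h0
    rw [← map_pow, ← map_mul] at hN
    obtain ⟨c, hc⟩ := Ideal.mem_span_singleton'.1 (mem_span_of_th_eq_zero a j hj hN)
    refine Ideal.mem_span_singleton'.2 ⟨GrT.deh (CohB1.polyGrading (n + 1) k) (X_mem₁ i) c, ?_⟩
    refine (map_mul (GrT.deh (CohB1.polyGrading (n + 1) k) (X_mem₁ i)) c _).symm.trans ((congrArg _ hc).trans ?_)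
    rw [map_mul, map_pow, GrT.deh_self, one_pow, one_mul]
  · rw [Ideal.span_singleton_le_iff_mem, RingHom.mem_ker, Scheme.Hom.app_eq_appLE]
    show ev r _ _ le_rfl _ = 0
    have h0 := ev_deh a j r hr τ hτ i e.ge (∑ l, a l • MvPolynomial.X l)
    rw [th_form a j hj, map_zero, ← ProjMor.ev_res r le_rfl e.ge] at h0
    exact ((resO_resO _ _ _).trans (resO_self _ _)).symm.trans ((congrArg (resO _ e.le) h0).trans (map_zero _))

omit r hr τ hτ in
theorem main {n : ℕ} (s : Coh.structureModule (CohB1.ProjSpace (n + 1) k) ⟶ Twist.twistProjSpace (n + 1) k 1) (hs : s ≠ 0) :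
    ∃ φ : CohB1.ProjSpace n k ≅ (PicF2.zeroScheme _ s).subscheme,
      Nonempty ((Scheme.Modules.pullback (φ.hom ≫ (PicF2.zeroScheme _ s).subschemeι)).obj
          (Twist.twistProjSpace (n + 1) k 1) ≅ Twist.twistProjSpace n k 1) := by
  obtain ⟨a, ha⟩ := exists_eq_sec1 (val s ⊤)
  have hs' : s = TMul.homOf (ProjMor.sec1 (ProjMor.linForms_mem (n + 1) k a)) :=
    TMul.hom_ext_val (ha.trans ((res_self _ _ _).symm.trans (TMul.val_homOf _ ⊤).symm))
  have hform : ProjMor.linForms (n + 1) k a = ∑ l, a l • MvPolynomial.X l :=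
    Fintype.linearCombination_apply _ _ _
  obtain ⟨j, hj⟩ : ∃ j, a j ≠ 0 := by
    by_contra h
    push Not at h
    refine hs (TMul.hom_ext_val (ha.trans (Eq.trans ?_ (ZeroSch.val_zero ⊤).symm)))
    refine Groth.Agent.QC.section_eq_of_locally fun y _ => ?_
    obtain ⟨l, hl⟩ : ∃ l, y ∈ Proj.basicOpen (CohB1.polyGrading (n + 1) k) (MvPolynomial.X l) :=
      Opens.mem_iSup.1 ((Groth.Agent.S9576.result (n + 1) k).1.ge trivial)
    refine ⟨_, le_top, hl, ?_⟩
    refine (ProjMor.res_sec1 (X_mem₁ l) (ProjMor.linForms_mem (n + 1) k a)).trans ?_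
    rw [hform, Finset.sum_eq_zero (fun i _ => by rw [h i, zero_smul]), map_zero, zero_smul]
    exact (map_zero _).symm
  obtain ⟨r, hr, τ, hτ⟩ := ProjMor.exists_projSpace (CohB1.ProjSpace.toSpec n k)
    (GrT.isInvertible_twist (ProjMor.exists_notMem (ProjMor.genDegOne_projSpace n k)) 1) (emb a j) (generatedBy a j)
  haveI := isClosedImmersion a j r hr τ hτ
  have hker : r.ker = PicF2.zeroScheme _ s := by
    refine ker_eq a j hj r hr τ hτ _ fun i => ?_
    have he : IsGen (res (Twist.twistProjSpace (n + 1) k 1) le_top (ProjMor.sec1 (X_mem₁ (k := k) i)) :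
        Γ(Twist.twistProjSpace (n + 1) k 1, Proj.basicOpen (CohB1.polyGrading (n + 1) k) (MvPolynomial.X i))) := by
      have := (TMul.isGen_genLocus (TMul.homOf (ProjMor.sec1 (X_mem₁ (k := k) i)))).res
        (ProjMor.genLocus_sec1 (ProjMor.genDegOne_projSpace (n + 1) k) (X_mem₁ i)).ge
      rwa [TMul.val_homOf, res_res] at this
    rw [← hform]
    refine ZeroSch.ideal_zeroScheme_eq_span s
      (GrT.isInvertible_twist (ProjMor.exists_notMem (ProjMor.genDegOne_projSpace (n + 1) k)) 1) _ he ?_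
    rw [hs', TMul.val_homOf]
    exact ProjMor.res_sec1 (X_mem₁ i) (ProjMor.linForms_mem (n + 1) k a)
  let I := PicF2.zeroScheme _ s
  have hk : I.subschemeι.ker = r.ker := I.ker_subschemeι.trans hker.symm
  haveI := IsClosedImmersion.isIso_lift I.subschemeι r hk
  refine ⟨asIso (IsClosedImmersion.lift I.subschemeι r hk.le), ?_⟩
  rw [asIso_hom, IsClosedImmersion.lift_fac]
  exact ⟨τ⟩

end Groth.Agent.HypIso
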