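import Mathlib.RingTheory.MvPolynomial.Homogeneous
import Mathlib.RingTheory.Ideal.Quotient.Operations

/-! Eliminating a variable by a linear form. -/

set_option autoImplicit false

noncomputable section

namespace Groth.Agent.HypIso

open MvPolynomial

universe u

variable {k : Type u} [Field k] {n : ℕ} (a : Fin (n + 2) → k) (j : Fin (n + 2))

/-- The images of the variables under the elimination. -/
def lam : Fin (n + 2) → (Fin (n + 1) → k) :=
  j.insertNth (α := fun _ => Fin (n + 1) → k) (fun l => -(a (j.succAbove l) / a j)) (fun l => Pi.single l 1)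

/-- Elimination of `X j` by the form with coefficients `a`. -/
def th : MvPolynomial (Fin (n + 2)) k →ₐ[k] MvPolynomial (Fin (n + 1)) k :=
  aeval fun i => Fintype.linearCombination k (fun l => (X l : MvPolynomial (Fin (n + 1)) k)) (lam a j i)

theorem th_X (i : Fin (n + 2)) :
    th a j (X i) = Fintype.linearCombination k (fun l => (X l : MvPolynomial (Fin (n + 1)) k)) (lam a j i) :=
  aeval_X _ i

theorem th_X_succAbove (l : Fin (n + 1)) : th a j (X (j.succAbove l)) = X l := by
  rw [th_X, lam, Fin.insertNth_apply_succAbove, Fintype.linearCombination_apply_single, one_smul]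

theorem th_surjective : Function.Surjective (th a j) := fun p => by
  refine ⟨rename j.succAbove p, ?_⟩
  induction p using MvPolynomial.induction_on with
  | C c => rw [rename_C, MvPolynomial.algHom_C]; rfl
  | add p q hp hq => rw [map_add, map_add, hp, hq]
  | mul_X p i hp => rw [map_mul, map_mul, hp, rename_X, th_X_succAbove]

theorem th_isHomogeneous {d : ℕ} {p : MvPolynomial (Fin (n + 2)) k} (hp : p.IsHomogeneous d) :
    (th a j p).IsHomogeneous d := by
  have := hp.aeval (S := k) (fun i => Fintype.linearCombination k (fun l => (X l : MvPolynomial (Fin (n + 1)) k))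
    (lam a j i)) (n := 1) (fun i => by
      rw [Fintype.linearCombination_apply]
      refine IsHomogeneous.sum _ _ 1 fun l _ => ?_
      rw [smul_eq_C_mul]
      exact (isHomogeneous_X k l).C_mul _)
  rwa [one_mul] at this

/-- The form killed by the elimination. -/
theorem th_form (hj : a j ≠ 0) : th a j (∑ i, a i • X i) = 0 := by
  rw [map_sum, Fin.sum_univ_succAbove _ j]
  simp only [map_smul, th_X_succAbove]
  rw [th_X, lam, Fin.insertNth_apply_same, Fintype.linearCombination_apply, Finset.smul_sum, ← Finset.sum_add_distrib]
  refine Finset.sum_eq_zero fun l _ => ?_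
  rw [smul_smul, ← add_smul, mul_neg, mul_div_cancel₀ _ hj, neg_add_cancel, zero_smul]

theorem mem_span_of_th_eq_zero (hj : a j ≠ 0) {p : MvPolynomial (Fin (n + 2)) k} (hp : th a j p = 0) :
    p ∈ Ideal.span {∑ i, a i • (X i : MvPolynomial (Fin (n + 2)) k)} := by
  let h : MvPolynomial (Fin (n + 2)) k := ∑ i, a i • X i
  let I := Ideal.span {h}
  let σ : MvPolynomial (Fin (n + 1)) k →ₐ[k] MvPolynomial (Fin (n + 2)) k := rename j.succAbove
  have key : (Ideal.Quotient.mkₐ k I).comp (σ.comp (th a j)) = Ideal.Quotient.mkₐ k I := by
    refine MvPolynomial.algHom_ext fun i => ?_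
    refine Fin.succAboveCases j ?_ (fun l => ?_) i
    · simp only [AlgHom.comp_apply, th_X, lam, Fin.insertNth_apply_same, Fintype.linearCombination_apply, map_sum,
        map_smul, σ, rename_X]
      have h0 : Ideal.Quotient.mkₐ k I (∑ i, a i • X i) = 0 :=
        Ideal.Quotient.eq_zero_iff_mem.2 (Ideal.mem_span_singleton_self h)
      rw [map_sum, Fin.sum_univ_succAbove _ j] at h0
      simp only [map_smul] at h0
      have h1 := congrArg ((a j)⁻¹ • ·) h0
      simp only [smul_add, smul_zero, Finset.smul_sum, smul_smul, inv_mul_cancel₀ hj, one_smul] at h1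
      rw [eq_neg_of_add_eq_zero_left h1, ← Finset.sum_neg_distrib]
      exact Finset.sum_congr rfl fun l _ => by rw [← neg_smul, inv_mul_eq_div]
    · simp only [AlgHom.comp_apply, th_X_succAbove, σ, rename_X]
  have := congrArg (fun φ => φ p) key
  simp only [AlgHom.comp_apply, hp, map_zero] at this
  exact Ideal.Quotient.eq_zero_iff_mem.1 this.symm

end Groth.Agent.HypIso
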